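import Groth.Agent.AlgSpPts.ProperSubspace
import Groth.Agent.AlgStLib.SepUnivClosed

/-!
# Finite unions of closed subspaces proper over a base
-/

set_option backward.isDefEq.respectTransparency false
set_option backward.isDefEq.respectTransparency.types false

universe u

open CategoryTheory CategoryTheory.Limits AlgebraicGeometry Opposite AlgSp

namespace Groth.Agent.ClosedUnion

open Groth.Agent.AlgSpLib Groth.Agent.AlgSpPts Groth.Agent.AlgSpPts.ProperSub

variable {S : Scheme.{u}}

theorem isUnivClosedMor_of_jointly_surjective {n : ℕ} {W G : Sp S} (R : Fin n → Sp S) (u : ∀ k, R k ⟶ W)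
    (h : W ⟶ G) (hu : ∀ w : Points W, ∃ k r, Points.map (u k) r = w) (hc : ∀ k, IsUnivClosedMor (u k ≫ h)) :
    IsUnivClosedMor h := by
  intro Z P hZ g fst p sq C hC
  have e : Points.map p '' C = ⋃ k, Points.map (pullback.snd (u k) fst ≫ p) ''
      (Points.map (pullback.snd (u k) fst) ⁻¹' C) := by
    ext z
    simp only [Set.mem_iUnion, Set.mem_image, Set.mem_preimage]
    constructor
    · rintro ⟨x, hx, rfl⟩
      obtain ⟨k, r, hr⟩ := hu (Points.map fst x)
      obtain ⟨q, -, hq⟩ := exists_point_of_isPullback (IsPullback.of_hasPullback (u k) fst) hr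
      exact ⟨k, q, hq.symm ▸ hx, by rw [Points.map_comp, hq]⟩
    · rintro ⟨k, q, hq, rfl⟩
      exact ⟨_, hq, (Points.map_comp _ _ _).symm⟩
  rw [e]
  exact isClosed_iUnion_of_finite fun k =>
    hc k hZ g (pullback.fst (u k) fst) _ ((IsPullback.of_hasPullback (u k) fst).paste_vert sq) _
      (hC.preimage (Points.continuous_map _))

theorem exists_union {X Y : Space S} (f : X ⟶ Y) (hf : LocP @LocallyOfFiniteType f.hom)
    {n : ℕ} (Z : Fin n → Space S) (i : ∀ k, Z k ⟶ X)
    (hi : ∀ k, RepWith @IsClosedImmersion (i k).hom) (hZ : ∀ k, IsProperMor (i k ≫ f).hom) :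
    ∃ (W : Space S) (j : W ⟶ X), RepWith @IsClosedImmersion j.hom ∧
      Set.range (Points.map j.hom) = ⋃ k, Set.range (Points.map (i k).hom) ∧
      IsProperMor (j ≫ f).hom := by
  have hcl : ∀ k, IsClosed (Set.range (Points.map (i k).hom)) := fun k =>
    isClosed_range_of_univClosed X.property (isProperMor_of_closedImmersion (hi k)).2.2
  obtain ⟨W, j, hj, hjr, hW⟩ := S10192.result X _ (isClosed_iUnion_of_finite hcl)
  refine ⟨W, j, hj, hjr, ?_⟩
  choose R r hr hrr hR using fun k => S10192.result X _ (hcl k)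
  choose u hu using fun k => (S10193.result j hj (hR k) (r k)).2 (by
    rw [hrr k, hjr]; exact Set.subset_iUnion (fun k => Set.range (Points.map (i k).hom)) k)
  have hu' : ∀ k, (u k).hom ≫ j.hom = (r k).hom := fun k => congrArg (·.hom) (hu k)
  have := mono_closedImmersion hj
  have huci : ∀ k, RepWith @IsClosedImmersion (u k).hom := fun k =>
    (RepWith (S := S) @IsClosedImmersion).of_postcomp (W' := MorphismProperty.monomorphisms _) (u k).hom j.hom this
      (by rw [hu' k]; exact hr k)
  have hRp : ∀ k, IsProperMor (r k ≫ f).hom := fun k =>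
    isProperMor_of_range_eq f hf (i k) (r k) (hi k) (hr k) (hrr k).symm (hZ k)
  have hsur : ∀ w : Points W.obj, ∃ k z, Points.map (u k).hom z = w := fun w => by
    have hmem : Points.map j.hom w ∈ Set.range (Points.map j.hom) := ⟨w, rfl⟩
    rw [hjr] at hmem
    obtain ⟨k, hk⟩ := Set.mem_iUnion.1 hmem
    rw [← hrr k] at hk
    obtain ⟨z, hz⟩ := hk
    refine ⟨k, z, injective_map (repWith_mono (fun _ _ g (_ : IsClosedImmersion g) =>
      g.isClosedEmbedding.injective) _ hj) ?_⟩
    rw [← Points.map_comp, hu' k, hz]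
  have hcomp : ∀ k, (u k).hom ≫ (j ≫ f).hom = (r k ≫ f).hom := fun k => by
    show (u k).hom ≫ j.hom ≫ f.hom = (r k).hom ≫ f.hom
    rw [← Category.assoc, hu' k]
  have huc : IsUnivClosedMor (j ≫ f).hom :=
    isUnivClosedMor_of_jointly_surjective (fun k => (R k).obj) (fun k => (u k).hom) _ hsur
      (fun k => by rw [hcomp k]; exact (hRp k).2.2)
  have hsep : IsSeparatedMor (j ≫ f).hom := by
    refine (AlgStLib.isUnivClosedMor_diagonal_iff W.property Y.property _).1
      (isUnivClosedMor_of_jointly_surjective (fun k => (R k).obj) (fun k => (u k).hom) _ hsur fun k => ?_)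
    let a := (r k ≫ f).hom
    let b := (j ≫ f).hom
    let m : pullback a a ⟶ pullback b b :=
      pullback.map a a b b (u k).hom (u k).hom (𝟙 _) (by rw [Category.comp_id, hcomp k]) (by rw [Category.comp_id, hcomp k])
    have hm : RepWith @IsClosedImmersion m :=
      MorphismProperty.pullbackMap (huci k) (huci k) (hcomp k).symm (hcomp k).symm
    have hd : (u k).hom ≫ pullback.diagonal b = pullback.diagonal a ≫ m := by
      apply pullback.hom_ext <;> simp [m, pullback.map]
    rw [hd]
    exact (isProperMor_of_closedImmersion (repWith_comp (hRp k).1 hm)).2.2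
  exact ⟨hsep, ⟨locP_comp W.property X.property Y.property (isProperMor_of_closedImmersion hj).2.1.1 hf,
    S9925.result _ huc⟩, huc⟩

end Groth.Agent.ClosedUnion
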